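import Cfsg.Agent.S2524
import Cfsg.Agent.H66.Cod.Defs
import Cfsg.Agent.Characters.Core
import Cfsg.Agent.H686.CharKit

/-!
# S4795 (helper78): the degree gap of `PSp_{2n}(q)`, `q ≥ 5` odd, `n ≥ 3`

From helper162's S2524.
-/

set_option autoImplicit false

universe u

namespace Cfsg.Agent.H78.Inc

open Cfsg Cfsg.Agent.H66.Cod Cfsg.Agent.H686.CharKit

theorem gap_arith {q n d : ℕ} (hq : 5 ≤ q) (hn : 3 ≤ n) (h1 : (q ^ 2 - 1) * d ≤ q ^ (2 * n) - 1)
    (h2 : (q ^ n - 1) * (q ^ n - q) ≤ 2 * (q + 1) * d) : False := by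
  have hx : q ^ 3 ≤ q ^ n := Nat.pow_le_pow_right (by omega) hn
  have e1 : q ^ (2 * n) = q ^ n * q ^ n := by rw [two_mul, pow_add]
  rw [e1] at h1
  set x := q ^ n with hxd
  have hq3 : q < q ^ 3 := by
    calc q = q ^ 1 := (pow_one q).symm
      _ < q ^ 3 := Nat.pow_lt_pow_right (by omega) (by norm_num)
  obtain ⟨y, hy⟩ : ∃ y, x = y + q := ⟨x - q, by omega⟩
  obtain ⟨t, ht⟩ : ∃ t, q = t + 1 := ⟨q - 1, by omega⟩
  have e2 : x * x - 1 = (x - 1) * (x + 1) := by
    obtain ⟨z, hz⟩ : ∃ z, x = z + 1 := ⟨x - 1, by omega⟩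
    rw [hz, Nat.add_sub_cancel]
    have : (z + 1) * (z + 1) = z * (z + 1 + 1) + 1 := by ring
    rw [this, Nat.add_sub_cancel]
  have e3 : q ^ 2 - 1 = (q - 1) * (q + 1) := by
    rw [ht, Nat.add_sub_cancel]
    have : (t + 1) ^ 2 = t * (t + 1 + 1) + 1 := by ring
    rw [this, Nat.add_sub_cancel]
  rw [e2, e3] at h1
  have h3 : (x - 1) * ((q - 1) * (x - q)) ≤ (x - 1) * (2 * (x + 1)) := by
    calc (x - 1) * ((q - 1) * (x - q)) = (q - 1) * ((x - 1) * (x - q)) := by ring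
      _ ≤ (q - 1) * (2 * (q + 1) * d) := Nat.mul_le_mul_left _ h2
      _ = 2 * ((q - 1) * (q + 1) * d) := by ring
      _ ≤ 2 * ((x - 1) * (x + 1)) := Nat.mul_le_mul_left _ h1
      _ = _ := by ring
  have h4 : (q - 1) * (x - q) ≤ 2 * (x + 1) := Nat.le_of_mul_le_mul_left h3 (by omega)
  have h5 : x - q = y := by omega
  rw [h5, hy] at h4
  have h6 : 4 * y ≤ (q - 1) * y := Nat.mul_le_mul_right _ (by omega)
  have h7 : q ^ 3 = q * q * q := by ring
  have h8 : 25 * q ≤ q * q * q := by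
    have : 5 * 5 ≤ q * q := Nat.mul_le_mul hq hq
    calc 25 * q ≤ (q * q) * q := Nat.mul_le_mul_right _ (by omega)
      _ = _ := by ring
  omega

theorem real_le {a b c d : ℕ} (hc : 0 < c) (h : ((a : ℕ) : ℝ) * ((b : ℕ) : ℝ) / (2 * ((c : ℕ) + 1 : ℝ)) ≤ (d : ℝ)) :
    a * b ≤ 2 * (c + 1) * d := by
  rw [div_le_iff₀ (by positivity)] at h
  have h2 : ((a * b : ℕ) : ℝ) ≤ ((2 * (c + 1) * d : ℕ) : ℝ) := by
    push_cast
    linarith
  exact_mod_cast h2

/-- no degree of `PSp_{2n}(q)` in the gap -/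
theorem psp_gap {F : Type} [Field F] [Fintype F] {n : ℕ} (hn : 3 ≤ n) (hodd : Odd (Fintype.card F))
    (hq : 5 ≤ Fintype.card F) {d : ℕ} (hd : NDeg (PSp n F) d) (h1 : Fintype.card F ^ (2 * n - 3) ≤ d)
    (h2 : (Fintype.card F ^ 2 - 1) * d ≤ Fintype.card F ^ (2 * n) - 1) : False := by
  classical
  set q := Fintype.card F with hqd
  obtain ⟨χ, hχ, hd⟩ := hd
  let f : ↥(Matrix.symplecticGroup (Fin n) F) →* PSp n F := QuotientGroup.mk' _
  have hf : Function.Surjective f := QuotientGroup.mk'_surjective _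
  have : Finite (PSp n F) := Finite.of_surjective f hf
  let θ : IrrCharacter ↥(Matrix.symplecticGroup (Fin n) F) := ⟨_, Characters.Core.isIrr_comp f hf χ.2⟩
  have hθ1 : (θ : ↥(Matrix.symplecticGroup (Fin n) F) → ℂ) 1 = (d : ℂ) := by
    change (χ : PSp n F → ℂ) (f 1) = _
    rw [map_one, ← hd]
    exact (charDegree_irr χ).symm
  have hqn : q ^ n ≤ q ^ (2 * n - 3) := Nat.pow_le_pow_right (by omega) (by omega)
  have hq3 : 125 ≤ q ^ n := by
    calc 125 = 5 ^ 3 := by norm_num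
      _ ≤ q ^ 3 := Nat.pow_le_pow_left hq 3
      _ ≤ q ^ n := Nat.pow_le_pow_right (by omega) hn
  obtain ⟨-, -, h3⟩ := S2524.result hodd n (by omega)
  have h4 := h3 θ
    (by
      rw [hθ1]
      intro h
      have : d = 1 := by exact_mod_cast h
      omega)
    (by
      rw [hθ1]
      intro h
      rw [eq_div_iff (by norm_num)] at h
      have : d * 2 = q ^ n + 1 := by exact_mod_cast h
      omega)
    (by
      rw [hθ1]
      intro h
      rw [eq_div_iff (by norm_num)] at h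
      have : d * 2 = q ^ n - 1 := by exact_mod_cast h
      omega)
  rw [hθ1, Complex.norm_natCast] at h4
  exact gap_arith hq hn h2 (real_le (by omega) h4)

end Cfsg.Agent.H78.Inc
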