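import Cfsg.Agent.H78.Inc.OmChar
import Cfsg.Agent.H78.Inc.Gap
import Cfsg.Agent.H78.Inc.Main

/-!
# S4795 (helper78): the degrees of `Ω_{2n+1}(q)` are not all degrees of `PSp_{2n}(q)`, `q` odd, `n ≥ 3`

* `not_cov_five` : `q ≥ 5`
* `one_odd` : all `q`, from the two facts for `q = 3`
-/

set_option autoImplicit false

universe u v

namespace Cfsg.Agent.H78.Inc

open Cfsg Cfsg.Agent.H66.Cod Cfsg.Agent.H677

theorem not_cov_five {S : Type u} {H : Type v} [Group S] [Group H] [Finite S] [Finite H] [IsSimpleGroup S]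
    [IsSimpleGroup H] {n q : ℕ} (hn : 3 ≤ n) (hq : Odd q) (h5 : 5 ≤ q) (hS : OrdDiv.Real (.oodd n q) S)
    (hH : OrdDiv.Real (.psp n q) H) : ¬ Cov S H 1 := by
  intro h
  obtain ⟨F, _, _, hF, ⟨e⟩⟩ := hS
  obtain ⟨F', _, _, hF', ⟨e'⟩⟩ := hH
  have h2 : (2 : F) ≠ 0 := two_ne_of_odd (by rw [hF]; exact hq)
  obtain ⟨d, hd, hd2⟩ := Om.omega_deg h2 (m := n) (by omega)
  have hdS : NDeg S d := ndeg_congr e hd
  have hlow : q ^ (2 * n - 3) ≤ d := by
    obtain ⟨χ, hχ, hχd⟩ := hdS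
    have h3 := OmegaIrr.charDegree_ge_odd (by omega) h2 e χ (one_ne hχ)
    rw [hχd, Nat.card_eq_fintype_card, hF] at h3
    exact h3
  have h3 := h.deg d hdS
  rw [one_mul] at h3
  have h4 : NDeg (PSp n F') d := ndeg_congr e'.symm h3
  refine psp_gap hn (by rw [hF']; exact hq) (by rw [hF']; exact h5) h4 (by rw [hF']; exact hlow) ?_
  rw [hF']
  rw [hF] at hd2
  exact hd2

/-- the facts for `q = 3` -/
def PspThree : Prop := ∀ {F : Type} [Field F] [Fintype F] {n d : ℕ}, Fintype.card F = 3 → 3 ≤ n →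
  NDeg (PSp n F) d → 4 * d ≠ 9 ^ n - 1

def OmThree : Prop := ∀ {F : Type} [Field F] [Fintype F] {n : ℕ}, Fintype.card F = 3 → 3 ≤ n →
  ∃ d, NDeg (POmega F (quadFormOdd n F)) d ∧ 4 * d = 9 ^ n - 1

theorem one_odd (hP : PspThree) (hO : OmThree) : OneOdd.{u, v} := by
  intro S H _ _ _ _ _ _ n q hn hq hS hH h
  by_cases h5 : 5 ≤ q
  · exact not_cov_five hn hq h5 hS hH h
  obtain ⟨F, _, _, hF, ⟨e⟩⟩ := hS
  obtain ⟨F', _, _, hF', ⟨e'⟩⟩ := hH
  have hq1 : 1 < q := by rw [← hF]; exact Fintype.one_lt_card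
  have hq3 : q = 3 := by
    obtain ⟨k, hk⟩ := hq
    omega
  subst hq3
  obtain ⟨d, hd, hd2⟩ := hO hF hn
  have h3 := h.deg d (ndeg_congr e hd)
  rw [one_mul] at h3
  exact hP hF' hn (ndeg_congr e'.symm h3) hd2

end Cfsg.Agent.H78.Inc
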