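import Cfsg.Agent.H78.Inc.Odd
import Cfsg.Agent.H78.Inc.Hyp
import Cfsg.Agent.H719.Quart.SameTop
import Cfsg.Agent.H719.Quart.Main
import Cfsg.Agent.H725.Cd.U3Fin
import Cfsg.Agent.H725.Cd.Iso
import Cfsg.Agent.H725.Cd.Kill
import Cfsg.Agent.H725.Om.Main
import Cfsg.Agent.H635.Cod.Num
import Cfsg.Agent.H635.Cod.TG
import Cfsg.Agent.H635.Cod.TI1
import Cfsg.Agent.H635.Cod.AltKill

/-!
# S4795 (helper78): the pieces together
-/

set_option autoImplicit false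

universe u v

namespace Cfsg.Agent.H78.Inc

open Cfsg Cfsg.Agent.H66.Cod Cfsg.Agent.H902

theorem eq_two {p f : ℕ} (h : Art.Real (.U 3) p f 62400) : p = 2 := by
  obtain ⟨t, ht, h2⟩ := H725.Cd.U3_eq h
  have h3 : Nat.gcd 3 (t + 4) ≤ 3 := Nat.gcd_le_left _ (by norm_num)
  have h5 : t < 2 := by
    by_contra hge
    obtain ⟨s, rfl⟩ := Nat.exists_eq_add_of_le' (not_lt.1 hge)
    have h4 : (s + 2 + 3) ^ 3 * ((s + 2 + 2) * (s + 2 + 4) ^ 2 * ((s + 2) ^ 2 + 5 * (s + 2) + 7)) ≤ 3 * 62400 := by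
      rw [← h2]
      exact Nat.mul_le_mul_right _ h3
    have h5 : 5 ^ 3 * (4 * 6 ^ 2 * (2 ^ 2 + 5 * 2 + 7)) ≤
        (s + 2 + 3) ^ 3 * ((s + 2 + 2) * (s + 2 + 4) ^ 2 * ((s + 2) ^ 2 + 5 * (s + 2) + 7)) := by
      gcongr <;> omega
    omega
  have h6 : t = 0 ∨ t = 1 := by omega
  rcases h6 with rfl | rfl
  · norm_num at h2
  · have h7 : p ∣ 4 := by
      have h8 : p ∣ p ^ f := dvd_pow_self p (by have := h.hf; omega)
      rw [ht] at h8
      exact h8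
    have h8 : p ∣ 2 := by
      have h9 : (4 : ℕ) = 2 ^ 2 := by norm_num
      rw [h9] at h7
      exact h.hp.dvd_of_dvd_pow h7
    exact (Nat.prime_dvd_prime_iff_eq h.hp Nat.prime_two).1 h8

theorem pieces (hK : ∀ (S : Type u) [Group S] [Finite S] [IsSimpleGroup S], IsKnownSimple' S) (hP : PspThree)
    (hSS : SporSpor.{u, v}) : Pieces.{u, v} where
  same hX hY h1 h2 := H719.Quart.same_one hX hY h1 h2
  cross hX h2 h3 hU hY hr hk hlt := H719.Quart.cross_one hX h2 h3 hU hY hr hk hlt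
  crossU := by
    intro Y p r f g N M k hX hY hr hk hlt
    obtain ⟨-, -, h3, h4⟩ := H725.Cd.cross_U3 hX hY hr hk hlt
    refine Or.inr ⟨h3, ?_, h4⟩
    subst h3
    exact eq_two hX
  killU := by
    intro S H _ _ _ _ _ _ k h h1 h2 hu _
    exact H725.Cd.kill_U3' OrdDiv.table OrdDiv.table hK h h1 h2 hu
  small := by
    intro S H _ _ _ _ _ _ hS _ k h n hn F _ _ e
    exact H725.Cd.small_iso' OrdDiv.table OrdDiv.table hK hS h hn e
  alt h hn2 hn3 hm hpm hk hlt hk2 := H635.Cod.alt_num h hn2 hn3 hm hpm hk hlt hk2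
  altKill h e hmk := H635.Cod.alt_kill h e hmk
  sporLie hS _ h _ _ _ hX h2 h3 hp := H635.Cod.spor_lie hS h hX h2 h3 hp
  sporSpor := hSS
  lieSpor hY hN hk hlt := H635.Cod.lie_spor hY hN hk hlt
  altSpor hN hm hk hlt hk2 := H635.Cod.alt_spor hN hm hk hlt hk2
  l34 hS hH := H635.Cod.not_cov_l34 hS hH
  odd := one_odd hP fun hF hn => H725.Om.om_deg hF hn

end Cfsg.Agent.H78.Inc
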