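import Cfsg.Agent.H101.Cod.SporA
import Cfsg.Agent.H101.Cod.SporM
import Cfsg.Agent.H101.Cod.SporMcL
import Cfsg.Agent.H101.Cod.SporFi22
import Cfsg.Agent.H101.Cod.SporFi23
import Cfsg.Agent.H101.Cod.SporCo2
import Cfsg.Agent.H101.Cod.SporB
import Cfsg.Agent.H101.Cod.SporSuz
import Cfsg.Agent.H495.Cod.Simple
import Cfsg.Agent.NotCT.Orders
import Cfsg.Agent.H78.Inc.Main

/-!
# S4795, T-H (helper78): `S` and `H` sporadic or the Tits group: assembly of helper101's bounds
-/

set_option autoImplicit false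

universe u v

namespace Cfsg.Agent.H78.Inc

open Cfsg Cfsg.Agent.H66.Cod Cfsg.Agent.H101.Cod

theorem not_prime_spor : ∀ M ∈ sporList, ¬ M.Prime := by
  intro M hM hpr
  have h1 : ∀ M ∈ sporList, M % 2 = 0 ∧ M ≠ 2 := by decide
  obtain ⟨h4, h5⟩ := h1 M hM
  rcases hpr.eq_two_or_odd with h6 | h6 <;> omega

theorem noncomm_spor {S : Type u} [Group S] [Finite S] [IsSimpleGroup S] (h : Nat.card S ∈ sporList) :
    ¬ ∀ a b : S, a * b = b * a := by
  intro hab
  let _ : CommGroup S := { (inferInstance : Group S) with mul_comm := hab }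
  exact not_prime_spor _ h IsSimpleGroup.prime_card

/-- the check -/
def chkS (n m : ℕ) : Bool := 0 < n && sporList.all fun N => N % n ≠ 0 || N == n || m * n ≤ N

theorem one_of_chk {S : Type u} {H : Type v} [Group S] [Group H] [Finite S] [Finite H] [IsSimpleGroup S]
    [IsSimpleGroup H] (hS : Nat.card S ∈ sporList) (hH : Nat.card H ∈ sporList) {k : ℕ} (h : Cov S H k) {n m : ℕ}
    (hn : Nat.card S = n) (hc : chkS n m = true) (hnc : NC S m) : k = 1 := by
  unfold chkS at hc
  rw [Bool.and_eq_true, List.all_eq_true] at hc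
  have hn0 : 0 < n := by simpa using hc.1
  have h1 := hc.2 _ hH
  simp only [Bool.or_eq_true, decide_eq_true_eq, beq_iff_eq] at h1
  have h2 := h.card
  rw [hn] at h2
  rcases h1 with (h3 | h3) | h3
  · exfalso
    apply h3
    rw [h2]
    exact Nat.mul_mod_left k n
  · rw [h2] at h3
    exact Nat.eq_of_mul_eq_mul_right hn0 (h3.trans (one_mul n).symm)
  · exfalso
    rw [h2] at h3
    exact hnc.not_cov (noncomm_spor hS) (noncomm_spor hH) (Nat.le_of_mul_le_mul_right h3 hn0) h

theorem one_of_triv {S : Type u} {H : Type v} [Group S] [Group H] [Finite S] [Finite H] [IsSimpleGroup S]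
    [IsSimpleGroup H] (hS : Nat.card S ∈ sporList) (hH : Nat.card H ∈ sporList) {k : ℕ} (h : Cov S H k) {n : ℕ}
    (hn : Nat.card S = n) (hc : chkS n ((n + 3) / 4) = true) : k = 1 :=
  one_of_chk hS hH h hn hc (NC.trivial (by rw [hn]; omega))

/-- **T-H.** -/
theorem spor_spor : SporSpor.{u, v} := by
  intro S H _ _ _ _ _ _ hS hH k h
  have cS : Nat.card S ∈ sporList := H495.Cod.spor_card hS
  have cH : Nat.card H ∈ sporList := H495.Cod.spor_card hH
  rcases hS with hS | hS
  · exact one_of_chk cS cH h (NotCT.Orders.tits hS) (by decide +kernel) (nc_tits hS)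
  rcases hS with hS | hS | hS | hS | hS | hS | hS | hS | hS | hS | hS | hS | hS | hS | hS | hS | hS | hS | hS | hS |
    hS | hS | hS | hS | hS | hS
  · exact one_of_chk cS cH h (NotCT.Orders.m11 hS) (by decide +kernel) (nc_m11 hS)
  · exact one_of_chk cS cH h (NotCT.Orders.m12 hS) (by decide +kernel) (nc_m12 hS)
  · exact one_of_chk cS cH h (NotCT.Orders.m22 hS) (by decide +kernel) (nc_m22 hS)
  · exact one_of_chk cS cH h (NotCT.Orders.m23 hS) (by decide +kernel) (nc_m23 hS)
  · exact one_of_chk cS cH h (NotCT.Orders.m24 hS) (by decide +kernel) (nc_m24 hS)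
  · exact one_of_triv cS cH h (NotCT.Orders.j1 hS) (by decide +kernel)
  · exact one_of_chk cS cH h (NotCT.Orders.j2 hS) (by decide +kernel) (nc_j2 hS)
  · exact one_of_triv cS cH h (NotCT.Orders.j3 hS) (by decide +kernel)
  · exact one_of_triv cS cH h (NotCT.Orders.j4 hS) (by decide +kernel)
  · exact one_of_chk cS cH h (NotCT.Orders.co1 hS) (by decide +kernel) (nc_co1 hS)
  · exact one_of_chk cS cH h (NotCT.Orders.co2 hS) (by decide +kernel) (nc_co2 hS)
  · exact one_of_chk cS cH h (NotCT.Orders.co3 hS) (by decide +kernel) (nc_co3 hS)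
  · exact one_of_chk cS cH h (NotCT.Orders.mcl hS) (by decide +kernel) (nc_mcl hS)
  · exact one_of_chk cS cH h (NotCT.Orders.hs hS) (by decide +kernel) (nc_hs hS)
  · exact one_of_chk cS cH h (NotCT.Orders.suz hS) (by decide +kernel) (nc_suz hS)
  · exact one_of_triv cS cH h (NotCT.Orders.he hS) (by decide +kernel)
  · exact one_of_triv cS cH h (NotCT.Orders.ru hS) (by decide +kernel)
  · exact one_of_triv cS cH h (NotCT.Orders.on hS) (by decide +kernel)
  · exact one_of_triv cS cH h (NotCT.Orders.ly hS) (by decide +kernel)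
  · exact one_of_chk cS cH h (NotCT.Orders.fi22 hS) (by decide +kernel) (nc_fi22 hS)
  · exact one_of_chk cS cH h (NotCT.Orders.fi23 hS) (by decide +kernel) (nc_fi23 hS)
  · exact one_of_triv cS cH h (NotCT.Orders.fi24 hS) (by decide +kernel)
  · exact one_of_triv cS cH h (NotCT.Orders.hn hS) (by decide +kernel)
  · exact one_of_triv cS cH h (NotCT.Orders.th hS) (by decide +kernel)
  · exact one_of_chk cS cH h (NotCT.Orders.b hS) (by decide +kernel) (nc_b hS)
  · exact one_of_triv cS cH h (NotCT.Orders.m hS) (by decide +kernel)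

end Cfsg.Agent.H78.Inc
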