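import Cfsg.Agent.H66.Cod.Uniq
import Cfsg.Agent.H330.Gow

/-!
# S4795 (helper78): the character of defect zero in the own characteristic, all groups of Lie type

* `uniqDZ_lie` : `UniqDZ p L` for every finite simple group `L` of Lie type in characteristic `p`
-/

set_option autoImplicit false

universe u

namespace Cfsg.Agent.H78.Inc

open Cfsg Cfsg.Agent.H902 Cfsg.Agent.H66.Cod

theorem dvd_card_lie {p : ℕ} (hp : p.Prime) {L : Type u} [Group L] [Finite L] [IsSimpleGroup L]
    (h : IsLieTypeChar p L) : p ∣ Nat.card L := by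
  have := Fact.mk hp
  exact H330.Gow.dvd_card (H330.Gow.hasSplit_of_ab (H716.SplitAb.hasSplitAb_of_lie hp h))

/-- the only character of `p`-defect zero of a group of Lie type of characteristic `p` -/
theorem uniqDZ_lie {p : ℕ} (hp : p.Prime) {L : Type u} [Group L] [Finite L] [IsSimpleGroup L]
    (h : IsLieTypeChar p L) : UniqDZ p L := by
  have := Fact.mk hp
  have hS := H716.SplitAb.hasSplitAb_of_lie hp h
  refine uniqDZ_of hp (fun χ χ' h1 h2 => H330.GowOne.unique_of_hasSplitAb hS
    (H330.Gow.perfect_of_split (H330.Gow.hasSplit_of_ab hS)) χ χ' h1 h2) ?_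
  obtain ⟨χ, -, hχ⟩ := ndeg_steinberg hp h (dvd_card_lie hp h)
  exact ⟨χ, hχ⟩

end Cfsg.Agent.H78.Inc
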